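import Cfsg.Agent.H0.TC
set_option maxRecDepth 100000
namespace H0.TCK1c
open H0
noncomputable def r0 : TC.WTr := (.node (.node (.node (.node (.node (.node (.leaf [0] 0 0 false) (.leaf [4] 4 0 false)) (.node (.leaf [2] 2 0 false) (.leaf [6] 6 0 false))) (.node (.node (.leaf [1] 1 0 false) (.leaf [5] 5 0 false)) (.leaf [3] 3 0 false))) (.node (.node (.node (.leaf [4, 0, 4] 10 0 false) (.leaf [5, 4, 5, 4, 5] 25 0 false)) (.node (.leaf [6, 2, 6] 21 0 false) (.leaf [3, 6, 3, 6, 3] 24 1 false))) (.node (.node (.leaf [6, 1, 6] 17 0 false) (.leaf [3, 5, 3] 23 1 false)) (.leaf [6, 3, 6, 3, 6] 24 0 false)))) (.node (.node (.node (.node (.leaf [2, 0, 2] 8 0 false) (.leaf [1, 4, 1] 15 1 false)) (.node (.leaf [3, 2, 3, 2, 3] 18 0 false) (.leaf [1, 6, 1] 17 1 false))) (.node (.node (.leaf [3, 1, 3] 14 0 false) (.leaf [1, 5, 1] 16 1 false)) (.leaf [1, 3, 1] 14 1 false))) (.node (.node (.node (.leaf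 [5, 0, 5] 11 0 false) (.leaf [3, 4, 3, 4, 3] 22 1 false)) (.node (.leaf [1, 2, 1, 2, 1] 13 1 false) (.leaf [6] 6 0 false))) (.node (.node (.leaf [0, 1, 0, 1, 0] 7 1 false) (.leaf [4, 5, 4, 5, 4] 25 1 false)) (.leaf [2, 3, 2, 3, 2] 18 1 false))))) (.node (.node (.node (.node (.node (.leaf [1, 0, 1, 0, 1] 7 0 false) (.leaf [0, 4, 0] 10 1 false)) (.node (.leaf [0, 2, 0] 8 1 false) (.leaf [0, 6, 0] 12 1 false))) (.node (.node (.leaf [2, 1, 2, 1, 2] 13 0 false) (.leaf [0, 5, 0] 11 1 false)) (.leaf [0, 3, 0] 9 1 false))) (.node (.node (.node (.leaf [6, 0, 6] 12 0 false) (.leaf [6, 4, 6] 26 0 false)) (.node (.leaf [5, 2, 5] 20 0 false) (.leaf [4, 6, 4] 26 1 false))) (.node (.node (.leaf [5, 1, 5] 16 0 false) (.leaf [6, 5, 6] 27 0 false)) (.leaf [5, 3, 5] 23 0 false)))) (.node (.node (.node (.node (.leaf [3, 0, 3] 9 0 false) (.leaf [2, 4, 2] 19 1 false)) (.node (.leaf [4, 2, 4] 19 0 false)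 (.leaf [2, 6, 2] 21 1 false))) (.node (.node (.leaf [4, 1, 4] 15 0 false) (.leaf [2, 5, 2] 20 1 false)) (.leaf [4, 3, 4, 3, 4] 22 0 false))) (.node (.node (.node (.leaf [1, 2, 3, 4, 5, 6, 0, 1, 2, 3, 4, 5, 6, 0, 1, 2, 3, 4, 5, 6, 0, 1, 2, 3, 4, 5, 6, 0, 1, 2, 3, 4, 5, 6, 0, 1, 2, 3, 4, 5, 6, 0, 1, 2, 3, 4, 5, 6, 0, 1, 2, 3, 4, 5, 6, 0, 1, 2, 3, 4, 5, 6] 28 0 false) (.leaf [4] 4 0 false)) (.node (.leaf [2] 2 0 false) (.leaf [6] 6 0 false))) (.node (.node (.leaf [1] 1 0 false) (.leaf [5] 5 0 false)) (.leaf [3] 3 0 false))))))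
noncomputable def tS : Tr := (.leaf (nat_lit 0xffd6784da368e9d76212ffe65849a26896776a2fffe4a8b5a159a83685bbffd4976184611a07dd84ffd877cd8352186675d9ffd82839476158260980ffd686e5654a5816ed65ffd647512859d645859effd637496658d6358d28ffd467bd62519465190bffd45665095254260145ffd4465d485114442547ffd276d14349d273b12affd26578eb4996149926ffd2557129494eb4a125ffd085e524420ce42d08ffd074890a3350941d07ffcea4fd062c0ec3a8eaffcaf3a0e93ace93a4e9ffc91414ca338cc330ccffccd244cb32ccb32ccbffc742b8e82b8ae2b8aeffcb02bc742b4ad2b4adffc922409115c9024090ffc731cc731d03a1cc73ffc56158561585707456ffc390e4390e4390e800ffc0000000000000001d))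
noncomputable def tJ : Tr := (.leaf (nat_lit 0x60c554047200336c1030146d42360c55440530046d02040569033430046d2034056a033000110116a00101116a4056b03041022026b01020226b04056c3034203306c02203036c0230440f02330406f02360e55044560d050445500d4555660c5044454000c333430040b223203330a12102222091001111109008888880))
noncomputable def tQ : Tr := (.leaf (nat_lit 0x0))
noncomputable def tR : TC.WTr := r0
def hl : List ℕ := [1, 2, 3, 4, 5, 6]
def B : List (List ℕ) := [[0, 0], [1, 1], [2, 2], [3, 3], [4, 4], [5, 5], [6, 6], [0, 1, 0, 1, 0, 1], [0, 2, 0, 2], [0, 3, 0, 3], [0, 4, 0, 4], [0, 5, 0, 5], [0, 6, 0, 6], [1, 2, 1, 2, 1, 2], [1, 3, 1, 3], [1, 4, 1, 4], [1, 5, 1, 5], [1, 6, 1, 6], [2, 3, 2, 3, 2, 3], [2, 4, 2, 4], [2, 5, 2, 5], [2, 6, 2, 6], [3, 4, 3, 4, 3, 4], [3, 5, 3, 5], [3, 6, 3, 6, 3, 6], [4, 5, 4, 5, 4, 5], [4, 6, 4, 6], [5, 6, 5, 6], [0, 1, 2, 3, 4, 5, 6, 0, 1, 2, 3, 4, 5, 6, 0, 1, 2, 3,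 4, 5, 6, 0, 1, 2, 3, 4, 5, 6, 0, 1, 2, 3, 4, 5, 6, 0, 1, 2, 3, 4, 5, 6, 0, 1, 2, 3, 4, 5, 6, 0, 1, 2, 3, 4, 5, 6, 0, 1, 2, 3, 4, 5, 6]]
def subs : List (List ℕ) := [[1], [2], [3], [4], [5], [6]]
def ex : List (List ℕ) := []
def inv (x : ℕ) : ℕ := [0, 1, 2, 3, 4, 5, 6].getD x 0
noncomputable def rS : ℕ → ℕ := rowOf tS (nat_lit 8) (nat_lit 255) (nat_lit 80) (nat_lit 1208925819614629174706175)
noncomputable def rJ : ℕ → ℕ := rowOf tJ (nat_lit 8) (nat_lit 255) (nat_lit 36) (nat_lit 68719476735)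
noncomputable def C : TC.Cfg where
  S := look rS (nat_lit 10) (nat_lit 1023)
  J := look rJ (nat_lit 4) (nat_lit 15)
  Q := lookQ tQ (nat_lit 8) (nat_lit 1) (nat_lit 1)
  R := tR.get
  hl := fun x => hl.contains x
  n := (nat_lit 28)
  M := (nat_lit 28)
  top := (nat_lit 672)
  nl := (nat_lit 7)
  need := (nat_lit 7)
  nr := (nat_lit 8)
theorem k0 : TC.chkRange C 0 1 = true := by decide +kernel
theorem rows0 : ∀ c < (0 + 1) * 64, c < C.M → TC.chkRow C c = true :=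
  TC.rows_step (TC.rows_zero C) k0
theorem main {G : Type*} [Group G] (g : ℕ → G) (hB : ∀ r ∈ B, ev g r = 1) (H : Subgroup G)
    (hH : ∀ w ∈ subs, ev g w ∈ H) :
    H.relIndex (Subgroup.closure (g '' {x | x < 7})) ≠ 0 ∧
      H.relIndex (Subgroup.closure (g '' {x | x < 7})) ≤ 28 :=
  TC.index_le C B subs ex inv hl tR.hint rfl (by decide +kernel) (by decide +kernel)
    (TC.rows_done rows0 (by decide +kernel)) g hB H hH
end H0.TCK1c
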